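import Groth.Agent.JacCrit.Basic

/-!
# Jacobian criterion for quotients of formally smooth algebras
-/

universe u

namespace Groth.Agent.JacCrit.Quotient

open TensorProduct KaehlerDifferential

variable {A B C : Type u} [CommRing A] [CommRing B] [CommRing C] [Algebra A B] [Algebra B C]
  [Algebra A C] [IsScalarTower A B C]

/-- The extension given by a surjection. -/
@[reducible]
noncomputable def ext (A : Type u) [CommRing A] [Algebra A B] [Algebra A C] [IsScalarTower A B C]
    (hsurj : Function.Surjective (algebraMap B C)) : Algebra.Extension.{u} A C :=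
  { Ring := B, σ := _, algebraMap_σ := Function.surjInv_eq hsurj }

lemma finite_cotangent (hsurj : Function.Surjective (algebraMap B C))
    [Module.Finite B (RingHom.ker (algebraMap B C)).Cotangent] :
    Module.Finite C (ext A hsurj).Cotangent := by
  have : Module.Finite B (ext A hsurj).Cotangent :=
    Module.Finite.equiv (M := (RingHom.ker (algebraMap B C)).Cotangent)
      (ext A hsurj).cotangentEquivCotangentKer.symm
  exact Module.Finite.of_restrictScalars_finite B C _

/-- Comparison of the three residual conormal maps. -/
theorem injective_iff_kerCotangentToTensor (hsurj : Function.Surjective (algebraMap B C))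
    (κ : Type u) [CommRing κ] [Algebra B κ] [Algebra C κ] [IsScalarTower B C κ] :
    Function.Injective ((kerCotangentToTensor A B C).lTensor κ) ↔
      Function.Injective (cotangentComplexBaseChange A C B κ) := by
  let J := RingHom.ker (algebraMap B C)
  let e : κ ⊗[B] J →ₗ[B] κ ⊗[B] J.Cotangent := LinearMap.lTensor κ J.toCotangent
  have he : Function.Bijective e := by
    refine ⟨?_, LinearMap.lTensor_surjective κ J.toCotangent_surjective⟩
    rw [injective_iff_map_eq_zero]
    intro t ht
    obtain ⟨s, rfl⟩ := ((lTensor_exact κ (LinearMap.exact_subtype_mkQ (J • ⊤ : Submodule B J))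
      (Submodule.mkQ_surjective _)) t).mp ht
    clear ht
    induction s with
    | zero => simp
    | add a b ha hb =>
      rw [map_add, ha, hb, add_zero]
    | tmul c z =>
      rw [LinearMap.lTensor_tmul]
      show c ⊗ₜ[B] (z : J) = 0
      obtain ⟨z, hz⟩ := z
      induction hz using Submodule.smul_induction_on' with
      | smul r hr n hn =>
        show c ⊗ₜ[B] (r • n) = 0
        rw [TensorProduct.tmul_smul, TensorProduct.smul_tmul', Algebra.smul_def,
          IsScalarTower.algebraMap_apply B C κ, RingHom.mem_ker.mp hr, map_zero, zero_mul, zero_tmul]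
      | add a ha b hb hA hB =>
        show c ⊗ₜ[B] (a + b) = 0
        rw [tmul_add, hA, hB, add_zero]
  let ι : κ ⊗[B] Ω[B⁄A] →ₗ[B] κ ⊗[B] (C ⊗[B] Ω[B⁄A]) :=
    LinearMap.lTensor κ ((TensorProduct.mk B C Ω[B⁄A]) 1)
  have hι : Function.Injective ι := by
    let g : κ ⊗[B] (C ⊗[B] Ω[B⁄A]) →ₗ[B] κ ⊗[B] Ω[B⁄A] :=
      (AlgebraTensorModule.congr (LinearEquiv.refl B κ) (LinearEquiv.refl B Ω[B⁄A])).toLinearMap ∘ₗ
        (LinearMap.rTensor Ω[B⁄A] ((TensorProduct.lift ((LinearMap.mul B κ).compl₂
          (IsScalarTower.toAlgHom B C κ).toLinearMap)))) ∘ₗ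
        (TensorProduct.assoc B κ C Ω[B⁄A]).symm.toLinearMap
    refine Function.LeftInverse.injective (g := g) fun t => ?_
    induction t with
    | zero => simp
    | add a b ha hb => rw [map_add, map_add, ha, hb]
    | tmul c ω => simp [ι, g]
  have heq : ∀ t, (kerCotangentToTensor A B C).lTensor κ (e t) = ι (cotangentComplexBaseChange A C B κ t) := by
    intro t
    induction t with
    | zero => simp
    | add a b ha hb => simp only [map_add, ha, hb]
    | tmul c z =>
      rw [cotangentComplexBaseChange_tmul, kerToTensor_apply, TensorProduct.smul_tmul', smul_eq_mul, mul_one]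
      simp [ι, e]
      rfl
  refine ⟨fun h a b hab => he.1 (h (by rw [heq, heq, hab])), fun h a b hab => ?_⟩
  obtain ⟨a, rfl⟩ := he.2 a
  obtain ⟨b, rfl⟩ := he.2 b
  rw [heq, heq] at hab
  rw [h (hι hab)]

/-- Comparison with the extension-level cotangent complex. -/
theorem injective_iff_cotangentComplexBaseChange (hsurj : Function.Surjective (algebraMap B C))
    (κ : Type u) [CommRing κ] [Algebra B κ] [Algebra C κ] [IsScalarTower B C κ] :
    Function.Injective ((ext A hsurj).cotangentComplex.lTensor κ) ↔
      Function.Injective (cotangentComplexBaseChange A C B κ) := by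
  let P := ext A hsurj
  have : IsScalarTower P.Ring C κ := ‹IsScalarTower B C κ›
  show Function.Injective (P.cotangentComplex.baseChange κ) ↔ _
  rw [P.lTensor_cotangentComplex_eq_cotangentComplexBaseChange κ]
  simp only [LinearMap.coe_comp, LinearEquiv.coe_coe]
  exact (EquivLike.comp_injective _ _).trans (EquivLike.injective_comp _ _)

variable [Algebra.FormallySmooth A B]

theorem formallySmooth_atPrime_iff (hsurj : Function.Surjective (algebraMap B C))
    [Module.Finite B (RingHom.ker (algebraMap B C)).Cotangent] (p : Ideal C) [p.IsPrime] :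
    Algebra.FormallySmooth A (Localization.AtPrime p) ↔
      Function.Injective (cotangentComplexBaseChange A C B p.ResidueField) := by
  have : Algebra.FormallySmooth A (ext A hsurj).Ring := ‹Algebra.FormallySmooth A B›
  have := finite_cotangent (A := A) hsurj
  rw [← injective_iff_cotangentComplexBaseChange hsurj]
  exact Groth.Agent.JacCrit.Basic.formallySmooth_atPrime_iff (ext A hsurj) p

theorem exists_away (hsurj : Function.Surjective (algebraMap B C))
    [Module.Finite B (RingHom.ker (algebraMap B C)).Cotangent] (p : Ideal C) [p.IsPrime]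
    [Algebra.FormallySmooth A (Localization.AtPrime p)] :
    ∃ f ∉ p, Algebra.FormallySmooth A (Localization.Away f) := by
  have : Algebra.FormallySmooth A (ext A hsurj).Ring := ‹Algebra.FormallySmooth A B›
  have := finite_cotangent (A := A) hsurj
  exact Groth.Agent.JacCrit.Basic.exists_away_of_injective (ext A hsurj) p
    (Groth.Agent.JacCrit.Basic.injective_of_formallySmooth (ext A hsurj) p)

theorem formallySmooth_of_forall_maximal (hsurj : Function.Surjective (algebraMap B C))
    [Module.Finite B (RingHom.ker (algebraMap B C)).Cotangent]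
    (h : ∀ (m : Ideal C) [m.IsMaximal], Algebra.FormallySmooth A (Localization.AtPrime m)) :
    Algebra.FormallySmooth A C := by
  have : Algebra.FormallySmooth A (ext A hsurj).Ring := ‹Algebra.FormallySmooth A B›
  have := finite_cotangent (A := A) hsurj
  exact Groth.Agent.JacCrit.Basic.formallySmooth_of_forall_maximal (ext A hsurj) h

end Groth.Agent.JacCrit.Quotient
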