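import Groth.Agent.LeftInv.Basic
import Mathlib.RingTheory.Smooth.Local
import Mathlib.RingTheory.Etale.Kaehler
import Mathlib.RingTheory.Localization.BaseChange

/-!
# Jacobian criterion at a prime, without finiteness of the presentation
-/

universe u

namespace Groth.Agent.JacCrit.Basic

open TensorProduct Algebra

variable {R C : Type u} [CommRing R] [CommRing C] [Algebra R C] (P : Algebra.Extension.{u} R C)
  [FormallySmooth R P.Ring]

/-- An approximate left inverse of the cotangent complex makes the localization formally smooth. -/
theorem formallySmooth_of_smul_eq (S : Submonoid C) (C' : Type u) [CommRing C'] [Algebra C C']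
    [Algebra R C'] [IsScalarTower R C C'] [IsLocalization S C'] {f : C} (hf : f ∈ S)
    (w : P.CotangentSpace →ₗ[C] P.Cotangent) (hw : ∀ z, w (P.cotangentComplex z) = f • z) :
    FormallySmooth R C' := by
  have hfu : IsUnit (algebraMap C C' f) := IsLocalization.map_units C' ⟨f, hf⟩
  refine ⟨?_, ?_⟩
  · let π : P.CotangentSpace →ₗ[C] Ω[C⁄R] := P.toKaehler
    let e : P.CotangentSpace →ₗ[C] P.CotangentSpace := f • LinearMap.id - P.cotangentComplex ∘ₗ w
    have hπu : ∀ z, π (P.cotangentComplex z) = 0 := P.exact_cotangentComplex_toKaehler.apply_apply_eq_zero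
    have hker : LinearMap.ker π ≤ LinearMap.ker e := by
      intro y hy
      obtain ⟨z, rfl⟩ := (P.exact_cotangentComplex_toKaehler y).mp hy
      simp [e, hw]
    have hπs : Function.Surjective π := P.toKaehler_surjective
    let ē : Ω[C⁄R] →ₗ[C] P.CotangentSpace :=
      (LinearMap.ker π).liftQ e hker ∘ₗ (π.quotKerEquivOfSurjective hπs).symm.toLinearMap
    have hē : ∀ t, π (ē t) = f • t := by
      intro t
      obtain ⟨y, rfl⟩ := hπs t
      have : ē (π y) = e y := by
        simp only [ē, LinearMap.comp_apply, LinearEquiv.coe_coe]
        rw [show (π.quotKerEquivOfSurjective hπs).symm (π y) = Submodule.Quotient.mk y from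
          (LinearEquiv.symm_apply_eq _).mpr rfl, Submodule.liftQ_apply]
      rw [this]
      simp [e, hπu]
    have : Algebra.FormallyEtale C C' := .of_isLocalization S
    have hproj : Module.Projective C' (C' ⊗[C] Ω[C⁄R]) := by
      refine Module.Projective.of_split ((↑hfu.unit⁻¹ : C') • ē.baseChange C') (π.baseChange C') ?_
      refine LinearMap.ext fun t => ?_
      induction t with
      | zero => simp
      | add a b ha hb => rw [map_add, ha, hb, map_add]
      | tmul c t =>
        simp only [LinearMap.comp_apply, LinearMap.smul_apply, LinearMap.baseChange_tmul, map_smul, hē,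
          LinearMap.id_apply]
        rw [TensorProduct.tmul_smul, ← algebraMap_smul C' f (c ⊗ₜ[C] t), smul_smul,
          IsUnit.val_inv_mul, one_smul]
    exact Module.Projective.of_equiv (KaehlerDifferential.tensorKaehlerEquivOfFormallyEtale R C C')
  · have hkill : ∀ x : H1Cotangent R C, f • x = 0 := by
      intro x
      obtain ⟨x, rfl⟩ := P.equivH1CotangentOfFormallySmooth.surjective x
      rw [← map_smul]
      convert map_zero P.equivH1CotangentOfFormallySmooth
      apply Subtype.ext
      show f • x.1 = 0
      rw [← hw, show P.cotangentComplex x.1 = 0 from x.2, map_zero]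
    refine subsingleton_of_forall_eq 0 fun y => ?_
    obtain ⟨⟨x, s⟩, hs⟩ := IsLocalizedModule.surj S (H1Cotangent.map R R C C') y
    have h1 : f • ((s : C) • y) = 0 := by
      rw [show (s : C) • y = H1Cotangent.map R R C C' x from hs, ← map_smul, hkill, map_zero]
    have hsu : IsUnit (algebraMap C C' (f * (s : C))) := IsLocalization.map_units C' ⟨_, mul_mem hf s.2⟩
    rw [← mul_smul, ← algebraMap_smul C' (f * (s : C)) y] at h1
    exact hsu.smul_eq_zero.mp h1

/-- Formal smoothness at a prime gives fibrewise injectivity of the cotangent complex. -/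
theorem injective_of_formallySmooth (p : Ideal C) [p.IsPrime]
    [FormallySmooth R (Localization.AtPrime p)] :
    Function.Injective (P.cotangentComplex.lTensor p.ResidueField) := by
  let C' := Localization.AtPrime p
  let π : P.CotangentSpace →ₗ[C] Ω[C⁄R] := P.toKaehler
  have : Algebra.FormallyEtale C C' := .of_isLocalization p.primeCompl
  have hH : Subsingleton (C' ⊗[C] LinearMap.ker P.cotangentComplex) := by
    have h1 : IsBaseChange C' (H1Cotangent.map R R C C') :=
      (isLocalizedModule_iff_isBaseChange p.primeCompl C' _).mp inferInstance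
    have : Subsingleton (C' ⊗[C] H1Cotangent R C) := h1.equiv.toEquiv.subsingleton
    have h2 : Subsingleton (C' ⊗[C] P.H1Cotangent) :=
      ((P.equivH1CotangentOfFormallySmooth).lTensor C').toEquiv.subsingleton
    exact h2
  have hu' : Function.Injective (P.cotangentComplex.baseChange C') := by
    rw [injective_iff_map_eq_zero]
    intro t ht
    have hex := Module.Flat.lTensor_exact C' (LinearMap.exact_subtype_ker_map P.cotangentComplex)
    obtain ⟨s, rfl⟩ := (hex t).mp ht
    rw [Subsingleton.elim s 0, map_zero]
  have hπs : Function.Surjective (π.baseChange C') := LinearMap.lTensor_surjective C' P.toKaehler_surjective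
  have hex : Function.Exact (P.cotangentComplex.baseChange C') (π.baseChange C') :=
    lTensor_exact C' P.exact_cotangentComplex_toKaehler P.toKaehler_surjective
  have : Module.Projective C' (C' ⊗[C] Ω[C⁄R]) :=
    Module.Projective.of_equiv (KaehlerDifferential.tensorKaehlerEquivOfFormallyEtale R C C').symm
  obtain ⟨σ, hσ⟩ := Module.projective_lifting_property (π.baseChange C') LinearMap.id hπs
  have := (hex.split_tfae hu' hπs).out 0 1
  obtain ⟨r, hr⟩ := this.mp ⟨σ, hσ⟩
  let κ := p.ResidueField
  let e₁ := AlgebraTensorModule.cancelBaseChange C C' κ κ P.Cotangent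
  let e₂ := AlgebraTensorModule.cancelBaseChange C C' κ κ P.CotangentSpace
  let L : κ ⊗[C] P.CotangentSpace →ₗ[κ] κ ⊗[C] P.Cotangent :=
    e₁.toLinearMap ∘ₗ r.baseChange κ ∘ₗ e₂.symm.toLinearMap
  refine Function.LeftInverse.injective (g := L) fun t => ?_
  induction t with
  | zero => simp
  | add a b ha hb => rw [map_add, map_add, ha, hb]
  | tmul c z =>
    have h1 : r (1 ⊗ₜ[C] P.cotangentComplex z) = (1 : C') ⊗ₜ[C] z :=
      DFunLike.congr_fun hr ((1 : C') ⊗ₜ[C] z)
    simp only [L, LinearMap.lTensor_tmul, LinearMap.comp_apply, LinearEquiv.coe_coe, e₁, e₂,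
      AlgebraTensorModule.cancelBaseChange_symm_tmul, LinearMap.baseChange_tmul, h1,
      AlgebraTensorModule.cancelBaseChange_tmul, one_smul]

variable [Module.Finite C P.Cotangent]

/-- Jacobian criterion at a prime. -/
theorem formallySmooth_atPrime_iff (p : Ideal C) [p.IsPrime] :
    FormallySmooth R (Localization.AtPrime p) ↔
      Function.Injective (P.cotangentComplex.lTensor p.ResidueField) := by
  refine ⟨fun _ => injective_of_formallySmooth P p, fun h => ?_⟩
  obtain ⟨f, hf, w, hw⟩ := Groth.Agent.LeftInv.Basic.exists_smul_eq P.cotangentComplex p h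
  exact formallySmooth_of_smul_eq P p.primeCompl _ hf w hw

/-- Jacobian criterion: smoothness spreads out. -/
theorem exists_away_of_injective (p : Ideal C) [p.IsPrime]
    (h : Function.Injective (P.cotangentComplex.lTensor p.ResidueField)) :
    ∃ f ∉ p, FormallySmooth R (Localization.Away f) := by
  obtain ⟨f, hf, w, hw⟩ := Groth.Agent.LeftInv.Basic.exists_smul_eq P.cotangentComplex p h
  exact ⟨f, hf, formallySmooth_of_smul_eq P (Submonoid.powers f) _ (Submonoid.mem_powers f) w hw⟩

include P in
/-- Formal smoothness is local at maximal ideals. -/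
theorem formallySmooth_of_forall_maximal
    (h : ∀ (m : Ideal C) [m.IsMaximal], FormallySmooth R (Localization.AtPrime m)) :
    FormallySmooth R C := by
  rw [P.formallySmooth_iff_split_injection]
  refine Groth.Agent.LeftInv.Basic.exists_leftInverse_of_forall P.cotangentComplex fun m hm => ?_
  have := h m
  exact Groth.Agent.LeftInv.Basic.exists_smul_eq P.cotangentComplex m (injective_of_formallySmooth P m)

omit [FormallySmooth R P.Ring] [Module.Finite C P.Cotangent] in
/-- Being formally smooth near `p` gives formal smoothness at `p`. -/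
theorem formallySmooth_atPrime_of_away (p : Ideal C) [p.IsPrime] {f : C} (hf : f ∉ p)
    [FormallySmooth R (Localization.Away f)] : FormallySmooth R (Localization.AtPrime p) := by
  let φ : Localization.Away f →ₐ[C] Localization.AtPrime p :=
    IsLocalization.liftAlgHom (M := Submonoid.powers f) (f := Algebra.ofId C _) fun y =>
      IsLocalization.map_units (M := p.primeCompl) _
        ⟨y.1, (Submonoid.powers_le.mpr hf : Submonoid.powers f ≤ p.primeCompl) y.2⟩
  algebraize [φ.toRingHom]
  have : IsScalarTower C (Localization.Away f) (Localization.AtPrime p) :=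
    .of_algebraMap_eq' φ.comp_algebraMap.symm
  have : IsScalarTower R (Localization.Away f) (Localization.AtPrime p) := .to₁₃₄ _ C _ _
  have : IsLocalization (p.primeCompl.map (algebraMap C (Localization.Away f))) (Localization.AtPrime p) :=
    IsLocalization.isLocalization_of_submonoid_le (Localization.Away f) (Localization.AtPrime p)
      (Submonoid.powers f) p.primeCompl (Submonoid.powers_le.mpr hf)
  have : FormallySmooth (Localization.Away f) (Localization.AtPrime p) :=
    .of_isLocalization (p.primeCompl.map (algebraMap C (Localization.Away f)))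
  exact .comp R (Localization.Away f) _

end Groth.Agent.JacCrit.Basic
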