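import Groth.Agent.JacCrit.Quotient
import Mathlib.RingTheory.Localization.Ideal
import Mathlib.LinearAlgebra.Matrix.Nondegenerate

/-!
# Jacobian criterion with derivations
-/

universe u

namespace Groth.Agent.JacCrit.Zariski

open TensorProduct KaehlerDifferential

variable {A : Type u} [CommRing A] {M : Type u} [AddCommGroup M] [Module A M]

/-- Every element of a base change to a field is a combination of pure tensors. -/
lemma span_pure (κ : Type u) [CommRing κ] [Algebra A κ] :
    Submodule.span κ (Set.range fun z : M => (1 : κ) ⊗ₜ[A] z) = ⊤ := by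
  rw [eq_top_iff]
  intro t _
  induction t with
  | zero => exact Submodule.zero_mem _
  | add a b ha hb => exact Submodule.add_mem _ (ha trivial) (hb trivial)
  | tmul r z =>
    have : r ⊗ₜ[A] z = r • ((1 : κ) ⊗ₜ[A] z) := by simp [TensorProduct.smul_tmul']
    exact this ▸ Submodule.smul_mem _ _ (Submodule.subset_span ⟨z, rfl⟩)

variable [Module.Finite A M]

/-- A family of pure tensors forming a basis of the fibre at a field. -/
theorem exists_basis_field (κ : Type u) [Field κ] [Algebra A κ] :
    ∃ (m : ℕ) (x : Fin m → M),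
      LinearIndependent κ (fun i => (1 : κ) ⊗ₜ[A] x i) ∧
        Submodule.span κ (Set.range fun i => (1 : κ) ⊗ₜ[A] x i) = ⊤ := by
  obtain ⟨b, hsub, hbspan, hbli⟩ := exists_linearIndependent κ (Set.range fun z : M => (1 : κ) ⊗ₜ[A] z)
  rw [span_pure] at hbspan
  let bb := Module.Basis.mk hbli (by rw [Subtype.range_coe]; exact hbspan.ge)
  let e := bb.indexEquiv (Module.finBasis κ (κ ⊗[A] M))
  choose x hx using fun i => hsub (e.symm i).2
  refine ⟨_, x, ?_, ?_⟩
  · rw [show (fun i => (1 : κ) ⊗ₜ[A] x i) = ((↑) : b → κ ⊗[A] M) ∘ e.symm from funext hx]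
    exact hbli.comp _ e.symm.injective
  · rw [show (fun i => (1 : κ) ⊗ₜ[A] x i) = ((↑) : b → κ ⊗[A] M) ∘ e.symm from funext hx,
      Set.range_comp, e.symm.range_eq_univ, Set.image_univ, Subtype.range_coe]
    exact hbspan

/-- Spanning over a field with kernel `p` gives generation near `p`. -/
theorem exists_smul_mem_span_field (p : Ideal A) [p.IsPrime] (κ : Type u) [Field κ] [Algebra A κ]
    (hκ : RingHom.ker (algebraMap A κ) = p) {ι : Type} (x : ι → M)
    (hx : Submodule.span κ (Set.range fun i => (1 : κ) ⊗ₜ[A] x i) = ⊤) :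
    ∃ s ∉ p, ∀ z : M, s • z ∈ Submodule.span A (Set.range x) := by
  refine Groth.Agent.LeftInv.Basic.exists_smul_mem_span p x ?_
  let φ : p.ResidueField →+* κ := Ideal.ResidueField.lift p (algebraMap A κ) hκ.ge
    (fun a ha => isUnit_iff_ne_zero.mpr fun h => ha (hκ ▸ h))
  let _ := φ.toAlgebra
  have : IsScalarTower A p.ResidueField κ := .of_algebraMap_eq fun a => by
    exact (Ideal.ResidueField.lift_algebraMap p (algebraMap A κ) _ _ a).symm
  set S := Submodule.span p.ResidueField (Set.range fun i => (1 : p.ResidueField) ⊗ₜ[A] x i) with hS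
  by_contra hne
  obtain ⟨ψ, hψ0, hψ⟩ := Submodule.exists_dual_map_eq_bot_of_lt_top (lt_top_iff_ne_top.mpr hne) inferInstance
  let e := AlgebraTensorModule.cancelBaseChange A p.ResidueField κ κ M
  let Ψ : κ ⊗[A] M →ₗ[κ] κ ⊗[p.ResidueField] p.ResidueField :=
    ψ.baseChange κ ∘ₗ e.symm.toLinearMap
  have hΨ : Ψ = 0 := by
    refine LinearMap.ext fun t => ?_
    have ht : t ∈ Submodule.span κ (Set.range fun i => (1 : κ) ⊗ₜ[A] x i) := hx ▸ Submodule.mem_top
    induction ht using Submodule.span_induction with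
    | mem y hy =>
      obtain ⟨i, rfl⟩ := hy
      have h0 : ψ ((1 : p.ResidueField) ⊗ₜ[A] x i) = 0 := by
        rw [← Submodule.mem_bot p.ResidueField, ← hψ]
        exact Submodule.mem_map_of_mem (Submodule.subset_span ⟨i, rfl⟩)
      simp [Ψ, e, h0]
    | zero => simp
    | add a b _ _ ha hb => rw [map_add, ha, hb, map_add]
    | smul r a _ ha => rw [map_smul, ha, map_smul]
  refine hψ0 (LinearMap.ext fun t => ?_)
  have h1 : (1 : κ) ⊗ₜ[p.ResidueField] ψ t = 0 := by
    have := DFunLike.congr_fun hΨ (e ((1 : κ) ⊗ₜ[p.ResidueField] t))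
    simpa [Ψ] using this
  have h2 := congrArg (TensorProduct.rid p.ResidueField κ) h1
  rw [TensorProduct.rid_tmul, map_zero, Algebra.smul_def, mul_one] at h2
  exact (map_eq_zero_iff (algebraMap p.ResidueField κ) φ.injective).mp h2

section Criterion

variable {R B : Type u} [CommRing R] [CommRing B] [Algebra R B] [Algebra.FormallySmooth R B]
  (J : Ideal B) [Module.Finite B J] (q : Ideal B) [q.IsPrime]
  (p : Ideal (B ⧸ J)) [p.IsPrime]

/-- Zariski's Jacobian criterion with derivations. -/
theorem formallySmooth_iff_exists_derivations (hpq : p.comap (Ideal.Quotient.mk J) = q) :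
    Algebra.FormallySmooth R (Localization.AtPrime p) ↔
      ∃ (m : ℕ) (f : Fin m → B) (D : Fin m → Derivation R B B),
        (∀ i, f i ∈ J) ∧
        J.map (algebraMap B (Localization.AtPrime q)) =
          Ideal.span (Set.range fun i => algebraMap B (Localization.AtPrime q) (f i)) ∧
        Matrix.det (Matrix.of fun i j => D j (f i)) ∉ q := by
  classical
  let C := B ⧸ J
  have hsurj : Function.Surjective (algebraMap B C) := Ideal.Quotient.mk_surjective
  have hker : RingHom.ker (algebraMap B C) = J := Ideal.mk_ker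
  have : Module.Finite B (RingHom.ker (algebraMap B C)) := by rw [hker]; infer_instance
  have : Module.Finite B (RingHom.ker (algebraMap B C)).Cotangent :=
    Module.Finite.of_surjective _ (Ideal.toCotangent_surjective _)
  let κ := p.ResidueField
  have hκ : RingHom.ker (algebraMap B κ) = q := by
    ext b
    rw [RingHom.mem_ker, IsScalarTower.algebraMap_apply B C κ, Ideal.algebraMap_residueField_eq_zero, ← hpq]
    rfl
  rw [Groth.Agent.JacCrit.Quotient.formallySmooth_atPrime_iff hsurj p]
  constructor
  · intro hinj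
    obtain ⟨m, x, hli, hspan⟩ := exists_basis_field (A := B) (M := RingHom.ker (algebraMap B C)) κ
    have hy : LinearIndependent κ fun i : Fin m => (1 : κ) ⊗ₜ[B] KaehlerDifferential.D R B (x i : B) := by
      have h2 := hli.map' _ (LinearMap.ker_eq_bot.mpr hinj)
      rw [show (cotangentComplexBaseChange R C B κ ∘ fun i : Fin m => (1 : κ) ⊗ₜ[B] x i) =
        fun i : Fin m => (1 : κ) ⊗ₜ[B] KaehlerDifferential.D R B (x i : B) from funext fun i => by
          simp [cotangentComplexBaseChange_tmul, kerToTensor_apply]] at h2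
      exact h2
    obtain ⟨g, hg⟩ := Groth.Agent.LeftInv.Basic.exists_functionals κ (fun i : Fin m => KaehlerDifferential.D R B (x i : B)) hy
    obtain ⟨s, hs, hsx⟩ := exists_smul_mem_span_field q κ hκ x hspan
    refine ⟨m, fun i => x i, fun i => (g i).compDer (KaehlerDifferential.D R B), fun i => hker.le (x i).2, ?_, ?_⟩
    · refine le_antisymm (Ideal.map_le_iff_le_comap.mpr fun z hz => ?_) (Ideal.span_le.mpr ?_)
      · have h3 : s * z ∈ Ideal.span (Set.range fun i => (x i : B)) := by
          have h4 := Submodule.mem_map_of_mem (f := (RingHom.ker (algebraMap B C)).subtype) (hsx ⟨z, hker.symm ▸ hz⟩)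
          rw [Submodule.map_span, ← Set.range_comp] at h4
          exact h4
        rw [Ideal.mem_comap]
        have h5 := Ideal.mem_map_of_mem (algebraMap B (Localization.AtPrime q)) h3
        rw [map_mul, Ideal.map_span, ← Set.range_comp] at h5
        exact (Ideal.unit_mul_mem_iff_mem _ (IsLocalization.map_units (Localization.AtPrime q) (⟨s, hs⟩ : q.primeCompl))).mp h5
      · rintro _ ⟨i, rfl⟩
        exact Ideal.mem_map_of_mem _ (hker.le (x i).2)
    · intro h
      refine hg ?_
      rw [← RingHom.mem_ker, hκ, ← Matrix.det_transpose]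
      exact h
  · rintro ⟨m, f, D, hfJ, hgen, hdet⟩
    let f' : Fin m → RingHom.ker (algebraMap B C) := fun i => ⟨f i, hker.symm ▸ hfJ i⟩
    have hspan : Submodule.span κ (Set.range fun i => (1 : κ) ⊗ₜ[B] f' i) = ⊤ := by
      rw [eq_top_iff, ← span_pure κ, Submodule.span_le]
      rintro _ ⟨⟨z, hz⟩, rfl⟩
      have h1 : algebraMap B (Localization.AtPrime q) z ∈
          (Ideal.span (Set.range f)).map (algebraMap B (Localization.AtPrime q)) := by
        rw [Ideal.map_span, ← Set.range_comp]
        exact hgen ▸ Ideal.mem_map_of_mem _ (hker ▸ hz)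
      rw [IsLocalization.algebraMap_mem_map_algebraMap_iff q.primeCompl] at h1
      obtain ⟨s, hs, hsz⟩ := h1
      obtain ⟨c, hc⟩ := (Ideal.mem_span_range_iff_exists_fun).mp hsz
      have hsκ : algebraMap B κ s ≠ 0 := fun h => hs (hκ ▸ (RingHom.mem_ker.mpr h))
      have h2 : algebraMap B κ s • ((1 : κ) ⊗ₜ[B] (⟨z, hz⟩ : RingHom.ker (algebraMap B C))) =
          ∑ i, algebraMap B κ (c i) • ((1 : κ) ⊗ₜ[B] f' i) := by
        simp only [algebraMap_smul, ← tmul_smul, ← tmul_sum]
        congr 1
        apply Subtype.ext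
        simp [f', ← hc]
      show ((1 : κ) ⊗ₜ[B] (⟨z, hz⟩ : RingHom.ker (algebraMap B C))) ∈ Submodule.span κ _
      rw [← inv_smul_smul₀ hsκ ((1 : κ) ⊗ₜ[B] (⟨z, hz⟩ : RingHom.ker (algebraMap B C))), h2]
      exact Submodule.smul_mem _ _ (Submodule.sum_mem _ fun i _ =>
        Submodule.smul_mem _ _ (Submodule.subset_span ⟨i, rfl⟩))
    rw [injective_iff_map_eq_zero]
    intro t ht
    obtain ⟨a, rfl⟩ := (Submodule.mem_span_range_iff_exists_fun κ).mp (hspan ▸ (Submodule.mem_top : t ∈ ⊤))
    have ha : ∀ j, ∑ i, a i * algebraMap B κ (D j (f i)) = 0 := by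
      intro j
      have h3 := congrArg (LinearMap.liftBaseChange κ
        ((Algebra.linearMap B κ) ∘ₗ (D j).liftKaehlerDifferential)) ht
      simpa [map_sum, map_smul, cotangentComplexBaseChange_tmul, kerToTensor_apply, f'] using h3
    have hM : ((algebraMap B κ).mapMatrix (Matrix.of fun i j => D j (f i))).det ≠ 0 := by
      rw [← RingHom.map_det]
      exact fun h => hdet (hκ ▸ RingHom.mem_ker.mpr h)
    have ha0 : a = 0 := Matrix.eq_zero_of_vecMul_eq_zero hM (funext fun j => ha j)
    simp [ha0]

end Criterion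

end Groth.Agent.JacCrit.Zariski
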